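import Cfsg.Agent.KFacts.Co3D4.Small
import Cfsg.Agent.Co2Type.Setup
import Cfsg.Agent.OddHalf.D4.Spor.Sheet

/-!
# Facts of kind D4 on groups of type `Co₃`

`G` finite without odd core and centre, `t` an involution, `C(t)` the non-split double cover of `Sp₆(2)`
(`N : NS (tC t) π`): `z1`, `bal`, `not_bad` of `OddHalf.D4.Spor.Sheet`.
-/

set_option autoImplicit false

namespace Cfsg.Agent.KFacts.Co3D4

open Cfsg.Agent.SporRec.TwoSp6.Cox Cfsg.Agent.SporRec.TwoSp6.Sp Cfsg.Agent.SporRec.TwoSp6.Lift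
  Cfsg.Agent.SporRec.TwoSp6.Main Cfsg.Agent.SporRec.TwoSp6.Invol Cfsg.Agent.SporRec.TwoSp6.CInvol
open Cfsg.Agent.SporRec.Co3.Fusion (tC mem_cent InA InB t_sq t_ne)
open Cfsg.Agent.OddHalf.D4.Spor (Cen Bad)

variable {G : Type*} [Group G] {t : G} {π : Subgroup.centralizer ({t} : Set G) →* S}

/-! ### general remarks -/

theorem eq_one_of_odd {I : Subgroup G} (hodd : Odd (Nat.card ↥I)) {x : G} (hx : x ∈ I) (h : x * x = 1) : x = 1 := by
  have h1 : orderOf (⟨x, hx⟩ : ↥I) ∣ 2 := by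
    apply orderOf_dvd_of_pow_eq_one
    rw [pow_two]
    exact Subtype.ext h
  have h2 : orderOf (⟨x, hx⟩ : ↥I) ∣ Nat.card ↥I := orderOf_dvd_natCard _
  have h3 : Nat.Coprime 2 (Nat.card ↥I) := Nat.coprime_two_left.mpr hodd
  have h4 : orderOf (⟨x, hx⟩ : ↥I) = 1 := Nat.eq_one_of_dvd_coprimes h3 h1 h2
  exact congrArg Subtype.val (orderOf_eq_one_iff.mp h4)

/-- An involution with trivial centraliser in a group of odd order inverts it. -/
theorem inverts [Finite G] {I : Subgroup G} (hodd : Odd (Nat.card ↥I)) {s : G} (hs : s * s = 1)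
    (hn : ∀ x ∈ I, s * x * s⁻¹ ∈ I) (hc : ∀ x ∈ I, x * s = s * x → x = 1) : ∀ x ∈ I, s * x * s⁻¹ = x⁻¹ := by
  let φ : ↥I →* ↥I :=
    { toFun := fun x => ⟨s * x * s⁻¹, hn x x.2⟩
      map_one' := Subtype.ext (by show s * 1 * s⁻¹ = 1; group)
      map_mul' := fun x y => Subtype.ext (by show s * ((x : G) * y) * s⁻¹ = s * x * s⁻¹ * (s * y * s⁻¹); group) }
  have hφ : MonoidHom.FixedPointFree φ := by
    intro x hx
    have h1 : s * (x : G) * s⁻¹ = x := congrArg Subtype.val hx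
    exact Subtype.ext (hc x x.2 (mul_inv_eq_iff_eq_mul.mp h1).symm)
  have hinv : Function.Involutive φ := by
    intro x
    apply Subtype.ext
    show s * (s * (x : G) * s⁻¹) * s⁻¹ = x
    have : s * (s * (x : G) * s⁻¹) * s⁻¹ = (s * s) * x * (s * s)⁻¹ := by group
    rw [this, hs]; group
  have h := MonoidHom.FixedPointFree.coe_eq_inv_of_involutive hφ hinv
  intro x hx
  have h1 := congrFun h ⟨x, hx⟩
  exact congrArg Subtype.val h1

/-- Two commuting involutions and their product cannot all invert. -/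
theorem eq_bot_of_inverts {I : Subgroup G} (hodd : Odd (Nat.card ↥I)) {s r : G}
    (h1 : ∀ x ∈ I, s * x * s⁻¹ = x⁻¹) (h2 : ∀ x ∈ I, r * x * r⁻¹ = x⁻¹)
    (h3 : ∀ x ∈ I, (s * r) * x * (s * r)⁻¹ = x⁻¹) : I = ⊥ := by
  rw [Subgroup.eq_bot_iff_forall]
  intro x hx
  apply eq_one_of_odd hodd hx
  have e : (s * r) * x * (s * r)⁻¹ = x := by
    have e1 : (s * r) * x * (s * r)⁻¹ = s * (r * x * r⁻¹) * s⁻¹ := by group
    rw [e1, h2 x hx, h1 x⁻¹ (I.inv_mem hx), inv_inv]
  rw [h3 x hx] at e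
  calc x * x = x⁻¹ * x := by rw [e]
    _ = 1 := inv_mul_cancel x

/-! ### centralisers -/

/-- The centraliser of `t` has no odd core. -/
theorem odd_t (N : NS (tC t) π) {I : Subgroup G} (hI : ∀ i ∈ I, i * t = t * i)
    (hn : ∀ c, c * t = t * c → ∀ i ∈ I, c * i * c⁻¹ ∈ I) (hodd : Odd (Nat.card ↥I)) : I = ⊥ := by
  have hsimple : IsSimpleGroup S := Cfsg.Agent.Co2Type.Setup.isSimpleGroup_sp6
  let C := Subgroup.centralizer ({t} : Set G)
  have hIC : I ≤ C := fun i hi => mem_cent.2 (hI i hi)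
  have hmap : ((I.subgroupOf C).map π).Normal := by
    refine ⟨?_⟩
    rintro _ ⟨i, hi, rfl⟩ g
    obtain ⟨c, rfl⟩ := N.surj g
    refine ⟨c * i * c⁻¹, ?_, by rw [map_mul, map_mul, map_inv]⟩
    exact hn c (mem_cent.1 c.2) i hi
  have hcardI : Nat.card ↥(I.subgroupOf C) = Nat.card ↥I := Nat.card_congr (Subgroup.subgroupOfEquivOfLe hIC).toEquiv
  rw [Subgroup.eq_bot_iff_forall]
  intro x hx
  rcases hmap.eq_bot_or_eq_top with h | h
  · have h1 : π ⟨x, hIC hx⟩ ∈ (I.subgroupOf C).map π := ⟨⟨x, hIC hx⟩, hx, rfl⟩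
    rw [h, Subgroup.mem_bot] at h1
    rcases N.ker _ h1 with h2 | h2
    · exact congrArg Subtype.val h2
    · apply eq_one_of_odd hodd hx
      have h3 : x = t := congrArg Subtype.val h2
      rw [h3]
      exact t_sq N
  · exfalso
    have h1 : Nat.card ↥((I.subgroupOf C).map π) ∣ Nat.card ↥(I.subgroupOf C) := Subgroup.card_map_dvd _ _
    rw [h, Subgroup.card_top, hcardI, card_S] at h1
    have h2 : 2 ∣ Nat.card ↥I := Dvd.dvd.trans (by norm_num) h1
    rw [Nat.odd_iff] at hodd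
    omega

/-- The centraliser in `C(t)` of an involution of type B. -/
theorem odd_tB (N : NS (tC t) π) {w : G} (hB : InB π w) {I : Subgroup G} (hI : ∀ i ∈ I, i * w = w * i)
    (hn : ∀ c, c * w = w * c → ∀ i ∈ I, c * i * c⁻¹ ∈ I) (hodd : Odd (Nat.card ↥I)) :
    ∀ x ∈ I, x * t = t * x → x = 1 := by
  obtain ⟨hm, hB⟩ := hB
  let C := Subgroup.centralizer ({t} : Set G)
  have hcard : Odd (Nat.card ↥(I.subgroupOf C)) := by
    refine Odd.of_dvd_nat hodd ?_
    have e : Nat.card ↥(I.subgroupOf C) = Nat.card ↥(I ⊓ C) := by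
      rw [← Subgroup.inf_subgroupOf_right]
      exact Nat.card_congr (Subgroup.subgroupOfEquivOfLe inf_le_right).toEquiv
    rw [e]
    exact Subgroup.card_dvd_of_le inf_le_left
  have h := eq_bot_of_odd N hB (M := I.subgroupOf C)
    (fun x hx => Subtype.ext (hI x hx))
    (fun g hg x hx => hn g (congrArg Subtype.val hg) x hx) hcard
  intro x hx hxt
  have h1 : (⟨x, mem_cent.2 hxt⟩ : C) ∈ I.subgroupOf C := hx
  rw [h, Subgroup.mem_bot] at h1
  exact congrArg Subtype.val h1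

/-- conjugation -/
theorem conj_cen [Finite G] {w : G} (h : Cen w) (g : G) : Cen (g * w * g⁻¹) := by
  obtain ⟨T, hT⟩ := h
  have : Fact (Nat.Prime 2) := ⟨Nat.prime_two⟩
  refine ⟨g • T, ?_⟩
  intro s hs
  have h1 : g⁻¹ * s * g ∈ T := by
    have : s ∈ ((g • T : Sylow 2 G) : Subgroup G) := hs
    rw [Sylow.smul_def] at this
    have h2 := Subgroup.mem_pointwise_smul_iff_inv_smul_mem.mp this
    have h3 : (MulAut.conj g)⁻¹ • s = g⁻¹ * s * g := by
      rw [← map_inv]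
      show g⁻¹ * s * g⁻¹⁻¹ = _
      rw [inv_inv]
    rw [h3] at h2
    exact h2
  have h2 := hT _ h1
  calc s * (g * w * g⁻¹) = g * ((g⁻¹ * s * g) * w) * g⁻¹ := by group
    _ = g * (w * (g⁻¹ * s * g)) * g⁻¹ := by rw [h2]
    _ = g * w * g⁻¹ * s := by group

/-- `t` is 2-central -/
theorem cen_t [Finite G] (N : NS (tC t) π) : Cen t := by
  obtain ⟨T, -, hT⟩ := Cfsg.Agent.SporRec.Co3.Sylow2.exists_sylow N
  exact ⟨T, hT⟩

/-- A 2-subgroup centralises a conjugate of `t`. -/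
theorem exists_t [Finite G] (N : NS (tC t) π) {P : Subgroup G} (hP : IsPGroup 2 ↥P) :
    ∃ g : G, ∀ x ∈ P, (g⁻¹ * x * g) * t = t * (g⁻¹ * x * g) := by
  have : Fact (Nat.Prime 2) := ⟨Nat.prime_two⟩
  obtain ⟨T, -, hT⟩ := Cfsg.Agent.SporRec.Co3.Sylow2.exists_sylow N
  obtain ⟨Q, hQ⟩ := hP.exists_le_sylow
  obtain ⟨g, hg⟩ := MulAction.exists_smul_eq G T Q
  refine ⟨g, fun x hx => hT _ ?_⟩
  have h1 : x ∈ ((g • T : Sylow 2 G) : Subgroup G) := by rw [hg]; exact hQ hx
  rw [Sylow.smul_def] at h1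
  have h2 := Subgroup.mem_pointwise_smul_iff_inv_smul_mem.mp h1
  have h3 : (MulAut.conj g)⁻¹ • x = g⁻¹ * x * g := by
    rw [← map_inv]
    show g⁻¹ * x * g⁻¹⁻¹ = _
    rw [inv_inv]
  rw [h3] at h2
  exact h2

/-- The only involution of the centre of a Sylow 2-subgroup contained in `C(t)` is `t`. -/
theorem eq_t [Finite G] (N : NS (tC t) π) {T : Sylow 2 G} (hT : ∀ x ∈ T, x * t = t * x) {a : G} (ha : a ∈ T)
    (ha2 : a * a = 1) (ha1 : a ≠ 1) (hac : ∀ s ∈ T, s * a = a * s) : a = t := by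
  have : Fact (Nat.Prime 2) := ⟨Nat.prime_two⟩
  by_contra hne
  let C := Subgroup.centralizer ({t} : Set G)
  have hTC : (T : Subgroup G) ≤ C := fun x hx => mem_cent.2 (hT x hx)
  have haC : a ∈ C := hTC ha
  have hcases : SporRec.TwoSp6.CInvol.IsA π ⟨a, haC⟩ ∨ SporRec.TwoSp6.CInvol.IsB π ⟨a, haC⟩ :=
    NS.invol N (y := ⟨a, haC⟩) (Subtype.ext ha2) (fun h => ha1 (congrArg Subtype.val h))
      (fun h => hne (congrArg Subtype.val h))
  obtain ⟨k, hk⟩ := Cfsg.Agent.SporRec.Co3.Sylow2.exists_conj_mul N hcases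
  refine Cfsg.Agent.SporRec.Co3.Sylow2.not_sylow_le (z := tC t) N.z_comm N.z_sq N.z_ne hk (T.subtype hTC) ?_
  intro g hg
  exact Subtype.ext (hac g.1 hg)

/-- **`z1`** -/
theorem z1 [Finite G] (N : NS (tC t) π) (T : Sylow 2 G) (a : G) (ha : a ∈ T) (ha2 : a * a = 1) (ha1 : a ≠ 1)
    (hac : ∀ s ∈ T, s * a = a * s) (b : G) (hb : b ∈ T) (hb2 : b * b = 1) (hb1 : b ≠ 1)
    (hbc : ∀ s ∈ T, s * b = b * s) : a = b := by
  have : Fact (Nat.Prime 2) := ⟨Nat.prime_two⟩
  obtain ⟨T₀, -, hT₀⟩ := Cfsg.Agent.SporRec.Co3.Sylow2.exists_sylow N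
  obtain ⟨g, hg⟩ := MulAction.exists_smul_eq G T₀ T
  have hmem : ∀ x : G, x ∈ T₀ → g * x * g⁻¹ ∈ T := by
    intro x hx
    rw [← hg]
    show g * x * g⁻¹ ∈ ((g • T₀ : Sylow 2 G) : Subgroup G)
    rw [Sylow.smul_def]
    exact Subgroup.smul_mem_pointwise_smul x (MulAut.conj g) _ hx
  have hmem' : ∀ x : G, x ∈ T → g⁻¹ * x * g ∈ T₀ := by
    intro x hx
    have h1 : x ∈ ((g • T₀ : Sylow 2 G) : Subgroup G) := by rw [hg]; exact hx
    rw [Sylow.smul_def] at h1
    have h2 := Subgroup.mem_pointwise_smul_iff_inv_smul_mem.mp h1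
    have h3 : (MulAut.conj g)⁻¹ • x = g⁻¹ * x * g := by
      rw [← map_inv]
      show g⁻¹ * x * g⁻¹⁻¹ = _
      rw [inv_inv]
    rw [h3] at h2
    exact h2
  have key : ∀ a : G, a ∈ T → a * a = 1 → a ≠ 1 → (∀ s ∈ T, s * a = a * s) → g⁻¹ * a * g = t := by
    intro a ha ha2 ha1 hac
    refine eq_t N hT₀ (hmem' a ha) ?_ ?_ ?_
    · have : (g⁻¹ * a * g) * (g⁻¹ * a * g) = g⁻¹ * (a * a) * g := by group
      rw [this, ha2]; group
    · intro h
      apply ha1
      calc a = g * (g⁻¹ * a * g) * g⁻¹ := by group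
        _ = 1 := by rw [h]; group
    · intro s hs
      have h1 := hac _ (hmem s hs)
      calc s * (g⁻¹ * a * g) = g⁻¹ * ((g * s * g⁻¹) * a) * g := by group
        _ = g⁻¹ * (a * (g * s * g⁻¹)) * g := by rw [h1]
        _ = g⁻¹ * a * g * s := by group
  have h1 := key a ha ha2 ha1 hac
  have h2 := key b hb hb2 hb1 hbc
  calc a = g * (g⁻¹ * a * g) * g⁻¹ := by group
    _ = g * (g⁻¹ * b * g) * g⁻¹ := by rw [h1, h2]
    _ = b := by group

/-- **`bal`** -/
theorem bal [Finite G] (ht : orderOf t = 2) (hO : Cfsg.oddCore G = ⊥) (hZ : Subgroup.center G = ⊥)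
    (N : NS (tC t) π) (a : G) (ha2 : a * a = 1) (ha1 : a ≠ 1) (I : Subgroup G) (hI : ∀ i ∈ I, i * a = a * i)
    (hn : ∀ c : G, c * a = a * c → ∀ i ∈ I, c * i * c⁻¹ ∈ I) (hodd : Odd (Nat.card ↥I)) : I = ⊥ := by
  have : Fact (Nat.Prime 2) := ⟨Nat.prime_two⟩
  -- transport
  have trans : ∀ (g : G), (∀ (J : Subgroup G), (∀ i ∈ J, i * (g⁻¹ * a * g) = (g⁻¹ * a * g) * i) →
      (∀ c : G, c * (g⁻¹ * a * g) = (g⁻¹ * a * g) * c → ∀ i ∈ J, c * i * c⁻¹ ∈ J) → Odd (Nat.card ↥J) → J = ⊥) →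
      I = ⊥ := by
    intro g hJ
    have h1 := hJ (I.map (MulAut.conj g⁻¹).toMonoidHom) ?_ ?_ ?_
    · rwa [Subgroup.map_eq_bot_iff_of_injective _ (MulAut.conj g⁻¹).injective] at h1
    · rintro _ ⟨i, hi, rfl⟩
      have h2 := hI i hi
      show (g⁻¹ * i * g⁻¹⁻¹) * (g⁻¹ * a * g) = (g⁻¹ * a * g) * (g⁻¹ * i * g⁻¹⁻¹)
      calc (g⁻¹ * i * g⁻¹⁻¹) * (g⁻¹ * a * g) = g⁻¹ * (i * a) * g := by group
        _ = g⁻¹ * (a * i) * g := by rw [h2]
        _ = _ := by group
    · rintro c hc _ ⟨i, hi, rfl⟩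
      refine ⟨(g * c * g⁻¹) * i * (g * c * g⁻¹)⁻¹, hn _ ?_ i hi, ?_⟩
      · calc g * c * g⁻¹ * a = g * (c * (g⁻¹ * a * g)) * g⁻¹ := by group
          _ = g * ((g⁻¹ * a * g) * c) * g⁻¹ := by rw [hc]
          _ = a * (g * c * g⁻¹) := by group
      · show g⁻¹ * ((g * c * g⁻¹) * i * (g * c * g⁻¹)⁻¹) * g⁻¹⁻¹ = c * (g⁻¹ * i * g⁻¹⁻¹) * c⁻¹
        group
    · rw [← Nat.card_congr (I.equivMapOfInjective _ (MulAut.conj g⁻¹).injective).toEquiv]
      exact hodd
  -- the conjugates of `t`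
  have hT : ∀ g : G, g⁻¹ * a * g = t → I = ⊥ := by
    intro g hg
    apply trans g
    rw [hg]
    intro J h1 h2 h3
    exact odd_t N h1 h2 h3
  have hp : IsPGroup 2 ↥(Subgroup.zpowers a) := by
    rw [IsPGroup.iff_card]
    refine ⟨1, ?_⟩
    rw [Nat.card_zpowers, pow_one]
    exact orderOf_eq_prime (by rw [pow_two]; exact ha2) ha1
  obtain ⟨g, hg⟩ := exists_t N hp
  have hg := hg a (Subgroup.mem_zpowers a)
  have b2 : (g⁻¹ * a * g) * (g⁻¹ * a * g) = 1 := by
    have : (g⁻¹ * a * g) * (g⁻¹ * a * g) = g⁻¹ * (a * a) * g := by group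
    rw [this, ha2]; group
  have b1 : g⁻¹ * a * g ≠ 1 := by
    intro h
    apply ha1
    calc a = g * (g⁻¹ * a * g) * g⁻¹ := by group
      _ = 1 := by rw [h]; group
  by_cases hbt : g⁻¹ * a * g = t
  · exact hT g hbt
  rcases Cfsg.Agent.SporRec.Co3.Fusion.invol N hg b2 b1 hbt with hA | hB
  · obtain ⟨k, hk⟩ := Cfsg.Agent.SporRec.Co3.Fusion.fused_A ht hO hZ N hA
    apply hT (g * k)
    calc (g * k)⁻¹ * a * (g * k) = k⁻¹ * (g⁻¹ * a * g) * k := by group
      _ = k⁻¹ * (k * t * k⁻¹) * k := by rw [hk]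
      _ = t := by group
  apply trans g
  clear trans hT
  revert hB
  generalize g⁻¹ * a * g = w
  intro hB J h1 h2 h3
  -- a four-group of conjugates of `t` commuting with `w`
  obtain ⟨hm, hB'⟩ := id hB
  obtain ⟨v, hvA, hvw⟩ := exists_A N hB'
  have hvA' : InA π (v : G) := ⟨v.2, hvA⟩
  have hvw' : (v : G) * w = w * v := congrArg Subtype.val hvw
  -- every conjugate of `t` commuting with `w` inverts `J`
  have key : ∀ k : G, (k * t * k⁻¹) * w = w * (k * t * k⁻¹) → ∀ x ∈ J, (k * t * k⁻¹) * x * (k * t * k⁻¹)⁻¹ = x⁻¹ := by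
    intro k hk
    have hkk : (k * t * k⁻¹) * (k * t * k⁻¹) = 1 := by
      have : (k * t * k⁻¹) * (k * t * k⁻¹) = k * (t * t) * k⁻¹ := by group
      rw [this, t_sq N]; group
    apply inverts h3 hkk
    · intro x hx
      exact h2 _ hk x hx
    · intro x hx hxk
      -- transport by `k`
      have hwB : InB π (k⁻¹ * w * k) := by
        have c1 : (k⁻¹ * w * k) * t = t * (k⁻¹ * w * k) := by
          calc (k⁻¹ * w * k) * t = k⁻¹ * (w * (k * t * k⁻¹)) * k := by group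
            _ = k⁻¹ * ((k * t * k⁻¹) * w) * k := by rw [hk]
            _ = t * (k⁻¹ * w * k) := by group
        have c2 : (k⁻¹ * w * k) * (k⁻¹ * w * k) = 1 := by
          have hw2 : w * w = 1 := congrArg Subtype.val (NS.sq_B N hB')
          have : (k⁻¹ * w * k) * (k⁻¹ * w * k) = k⁻¹ * (w * w) * k := by group
          rw [this, hw2]; group
        have hnf := Cfsg.Agent.SporRec.Co3.Fusion.not_fused_B N hB
        have c3 : k⁻¹ * w * k ≠ 1 := by
          intro h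
          have hw1 : w = 1 := by
            calc w = k * (k⁻¹ * w * k) * k⁻¹ := by group
              _ = 1 := by rw [h]; group
          have := Cfsg.Agent.SporRec.TwoSp6.CInvol.isB_not_sq hB' 1
          apply this
          rw [mul_one]
          exact Subtype.ext hw1.symm
        have c4 : k⁻¹ * w * k ≠ t := by
          intro h
          apply hnf k
          rw [← h]; group
        rcases Cfsg.Agent.SporRec.Co3.Fusion.invol N c1 c2 c3 c4 with h | h
        · exfalso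
          obtain ⟨l, hl⟩ := Cfsg.Agent.SporRec.Co3.Fusion.fused_A ht hO hZ N h
          apply hnf (k * l)
          calc k * l * t * (k * l)⁻¹ = k * (l * t * l⁻¹) * k⁻¹ := by group
            _ = w := by rw [hl]; group
        · exact h
      have h4 := odd_tB N hwB (I := J.map (MulAut.conj k⁻¹).toMonoidHom) ?_ ?_ ?_ (k⁻¹ * x * k) ?_ ?_
      · calc x = k * (k⁻¹ * x * k) * k⁻¹ := by group
          _ = 1 := by rw [h4]; group
      · rintro _ ⟨i, hi, rfl⟩
        have h5 := h1 i hi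
        show (k⁻¹ * i * k⁻¹⁻¹) * (k⁻¹ * w * k) = (k⁻¹ * w * k) * (k⁻¹ * i * k⁻¹⁻¹)
        calc (k⁻¹ * i * k⁻¹⁻¹) * (k⁻¹ * w * k) = k⁻¹ * (i * w) * k := by group
          _ = k⁻¹ * (w * i) * k := by rw [h5]
          _ = _ := by group
      · rintro c hc _ ⟨i, hi, rfl⟩
        refine ⟨(k * c * k⁻¹) * i * (k * c * k⁻¹)⁻¹, h2 _ ?_ i hi, ?_⟩
        · calc k * c * k⁻¹ * w = k * (c * (k⁻¹ * w * k)) * k⁻¹ := by group
            _ = k * ((k⁻¹ * w * k) * c) * k⁻¹ := by rw [hc]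
            _ = w * (k * c * k⁻¹) := by group
        · show k⁻¹ * ((k * c * k⁻¹) * i * (k * c * k⁻¹)⁻¹) * k⁻¹⁻¹ = c * (k⁻¹ * i * k⁻¹⁻¹) * c⁻¹
          group
      · rw [← Nat.card_congr (J.equivMapOfInjective _ (MulAut.conj k⁻¹).injective).toEquiv]
        exact h3
      · refine ⟨x, hx, ?_⟩
        show k⁻¹ * x * k⁻¹⁻¹ = _
        rw [inv_inv]
      · calc (k⁻¹ * x * k) * t = k⁻¹ * (x * (k * t * k⁻¹)) * k := by group
          _ = k⁻¹ * ((k * t * k⁻¹) * x) * k := by rw [hxk]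
          _ = t * (k⁻¹ * x * k) := by group
  have htw : t * w = w * t := (InB.comm hB).symm
  obtain ⟨k1, hk1⟩ := Cfsg.Agent.SporRec.Co3.Fusion.fused_A ht hO hZ N hvA'
  obtain ⟨k2, hk2⟩ := Cfsg.Agent.SporRec.Co3.Fusion.fused_A ht hO hZ N (InA.mul_t N hvA')
  refine eq_bot_of_inverts h3 (s := t) (r := v) ?_ ?_ ?_
  · have := key 1 (by simpa using htw)
    simpa using this
  · have := key k1 (by rw [hk1]; exact hvw')
    rwa [hk1] at this
  · have := key k2 (by
      rw [hk2]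
      calc t * (v : G) * w = t * (v * w) := by group
        _ = t * (w * v) := by rw [hvw']
        _ = (t * w) * v := by group
        _ = w * (t * v) := by rw [htw]; group)
    rwa [hk2] at this

/-- **`Bad` is impossible.** -/
theorem not_bad [Finite G] (ht : orderOf t = 2) (hO : Cfsg.oddCore G = ⊥) (hZ : Subgroup.center G = ⊥)
    (N : NS (tC t) π) (w : G) (M : Subgroup G) : ¬ Bad w M := by
  intro hb
  have : Fact (Nat.Prime 2) := ⟨Nat.prime_two⟩
  -- a subgroup of order 4 of `M`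
  obtain ⟨V, hV⟩ := Sylow.exists_subgroup_card_pow_prime (G := ↥M) 2 (n := 2) (by simpa using hb.four)
  set W : Subgroup G := V.map M.subtype with hW
  have hWcard : Nat.card ↥W = 4 := by
    rw [hW, ← Nat.card_congr (V.equivMapOfInjective _ M.subtype_injective).toEquiv, hV]
    norm_num
  have hWM : W ≤ M := by
    rintro _ ⟨v, -, rfl⟩
    exact v.2
  have hWp : IsPGroup 2 ↥W := by
    rw [IsPGroup.iff_card]
    exact ⟨2, by rw [hWcard]; norm_num⟩
  have hwp : IsPGroup 2 ↥(Subgroup.zpowers w) := by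
    rw [IsPGroup.iff_card]
    refine ⟨1, ?_⟩
    rw [Nat.card_zpowers, pow_one]
    exact orderOf_eq_prime (by rw [pow_two]; exact hb.sq) hb.ne
  have hP : IsPGroup 2 ↥(W ⊔ Subgroup.zpowers w) := by
    apply hWp.to_sup_of_normal_left' hwp
    rw [Subgroup.zpowers_le, Subgroup.mem_normalizer_iff]
    have h3 : ∀ x ∈ W, w * x * w⁻¹ = x := by
      intro x hx
      have := hb.le x (hWM hx)
      rw [← this]; group
    intro x
    constructor
    · intro hx
      rw [h3 x hx]; exact hx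
    · intro hx
      have h4 := h3 _ hx
      have h5 : w * x * w⁻¹ = x := mul_left_cancel (mul_right_cancel h4)
      rwa [h5] at hx
  obtain ⟨g, hg⟩ := exists_t N hP
  have hgw := hg w (Subgroup.mem_sup_right (Subgroup.mem_zpowers w))
  have hgW : ∀ x ∈ W, (g⁻¹ * x * g) * t = t * (g⁻¹ * x * g) := fun x hx => hg x (Subgroup.mem_sup_left hx)
  -- transport
  set y := g⁻¹ * w * g with hy
  have y2 : y * y = 1 := by
    have : y * y = g⁻¹ * (w * w) * g := by rw [hy]; group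
    rw [this, hb.sq]; group
  have gy : g * y * g⁻¹ = w := by rw [hy]; group
  have y1 : y ≠ 1 := by
    intro h
    apply hb.ne
    rw [← gy, h]; group
  have hct := cen_t N
  have nconj : ∀ x ∈ M, x * x = 1 → x ≠ 1 → ∀ k : G, k * t * k⁻¹ ≠ x := by
    intro x hx h2 h1 k hk
    apply hb.non x hx h2 h1
    rw [← hk]
    exact conj_cen hct k
  have yt : y ≠ t := by
    intro h
    apply nconj w hb.mem hb.sq hb.ne g
    rw [← h, gy]
  have hyB : InB π y := by
    rcases Cfsg.Agent.SporRec.Co3.Fusion.invol N hgw y2 y1 yt with h | h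
    · exfalso
      obtain ⟨l, hl⟩ := Cfsg.Agent.SporRec.Co3.Fusion.fused_A ht hO hZ N h
      apply nconj w hb.mem hb.sq hb.ne (g * l)
      calc g * l * t * (g * l)⁻¹ = g * (l * t * l⁻¹) * g⁻¹ := by group
        _ = w := by rw [hl, gy]
    · exact h
  obtain ⟨hm, hB⟩ := hyB
  let C := Subgroup.centralizer ({t} : Set G)
  set M' : Subgroup C := (M.map (MulAut.conj g⁻¹).toMonoidHom).subgroupOf C with hM'
  have memM' : ∀ x : C, x ∈ M' ↔ g * x * g⁻¹ ∈ M := by
    intro x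
    rw [hM', Subgroup.mem_subgroupOf]
    constructor
    · rintro ⟨i, hi, hix⟩
      have : g⁻¹ * i * g⁻¹⁻¹ = x := hix
      rw [← this]
      have e : g * (g⁻¹ * i * g⁻¹⁻¹) * g⁻¹ = i := by group
      rw [e]; exact hi
    · intro h
      refine ⟨_, h, ?_⟩
      show g⁻¹ * (g * x * g⁻¹) * g⁻¹⁻¹ = x
      group
  have hsmall := small N hB (M := M') ?_ ?_ ?_
  · -- `W` has at most two elements
    have hW2 : ∀ x ∈ W, x = 1 ∨ x = w := by
      intro x hx
      have h1 : g * (g⁻¹ * x * g) * g⁻¹ = x := by group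
      have h2 := hsmall ⟨g⁻¹ * x * g, mem_cent.2 (hgW x hx)⟩ ((memM' _).2 (by
        show g * (g⁻¹ * x * g) * g⁻¹ ∈ M
        rw [h1]; exact hWM hx))
      rcases h2 with h | h | h
      · left
        have h3 : g⁻¹ * x * g = 1 := congrArg Subtype.val h
        rw [← h1, h3]; group
      · right
        have h3 : g⁻¹ * x * g = y := congrArg Subtype.val h
        rw [← h1, h3, gy]
      · exfalso
        have h3 : g⁻¹ * x * g = t * y := congrArg Subtype.val h
        have h4 : g * t * g⁻¹ = x * w := by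
          calc g * t * g⁻¹ = g * (t * y * y) * g⁻¹ := by rw [mul_assoc t, y2, mul_one]
            _ = (g * (t * y) * g⁻¹) * (g * y * g⁻¹) := by group
            _ = x * w := by rw [← h3, gy, h1]
        refine nconj (x * w) (M.mul_mem (hWM hx) hb.mem) ?_ ?_ g h4
        · rw [← h4]
          have : g * t * g⁻¹ * (g * t * g⁻¹) = g * (t * t) * g⁻¹ := by group
          rw [this, t_sq N]; group
        · rw [← h4]
          intro h5
          apply t_ne N
          calc t = g⁻¹ * (g * t * g⁻¹) * g := by group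
            _ = 1 := by rw [h5]; group
    have hle : Nat.card ↥W ≤ 2 := by
      have : (W : Set G) ⊆ {1, w} := fun x hx => hW2 x hx
      calc Nat.card ↥W = (W : Set G).ncard := Nat.card_coe_set_eq _
        _ ≤ ({1, w} : Set G).ncard := Set.ncard_le_ncard this (Set.toFinite _)
        _ ≤ 2 := by
          calc ({1, w} : Set G).ncard ≤ ({w} : Set G).ncard + 1 := Set.ncard_insert_le _ _
            _ = 2 := by rw [Set.ncard_singleton]
    omega
  · intro x hx
    have h1 := hb.le _ ((memM' x).1 hx)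
    apply Subtype.ext
    show (x : G) * y = y * x
    calc (x : G) * y = g⁻¹ * ((g * x * g⁻¹) * w) * g := by rw [hy]; group
      _ = g⁻¹ * (w * (g * x * g⁻¹)) * g := by rw [h1]
      _ = y * x := by rw [hy]; group
  · intro c hc x hx
    rw [memM'] at hx ⊢
    have hc' : (c : G) * y = y * c := congrArg Subtype.val hc
    have h1 := hb.norm (g * c * g⁻¹) (by
      calc g * c * g⁻¹ * w = g * (c * y) * g⁻¹ := by rw [hy]; group
        _ = g * (y * c) * g⁻¹ := by rw [hc']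
        _ = w * (g * c * g⁻¹) := by rw [hy]; group) _ hx
    have e : g * (c * x * c⁻¹ : C) * g⁻¹ = g * c * g⁻¹ * (g * x * g⁻¹) * (g * c * g⁻¹)⁻¹ := by
      show g * ((c : G) * x * (c : G)⁻¹) * g⁻¹ = _
      group
    rw [e]
    exact h1
  · intro hz
    rw [memM'] at hz
    have hz' : g * t * g⁻¹ ∈ M := hz
    refine nconj _ hz' ?_ ?_ g rfl
    · have : g * t * g⁻¹ * (g * t * g⁻¹) = g * (t * t) * g⁻¹ := by group
      rw [this, t_sq N]; group
    · intro h5
      apply t_ne N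
      calc t = g⁻¹ * (g * t * g⁻¹) * g := by group
        _ = 1 := by rw [h5]; group

end Cfsg.Agent.KFacts.Co3D4
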