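import Cfsg.Agent.KFacts.Co3D4.Glevel
import Cfsg.Agent.KFacts.Co3.Cent
import Cfsg.Agent.SporRec.TwoSp6.Hom
import Cfsg.Agent.SporRec.Co3.Model
import Cfsg.Agent.OddHalf.D4.Spor.Transport

/-!
# The sheet of kind D4 of `Co₃`
-/

set_option autoImplicit false

namespace Cfsg.Agent.KFacts.Co3D4

open Cfsg.Agent.SporRec.TwoSp6.Cox Cfsg.Agent.SporRec.TwoSp6.Sp Cfsg.Agent.SporRec.TwoSp6.Lift
  Cfsg.Agent.SporRec.TwoSp6.Main Cfsg.Agent.SporRec.TwoSp6.Invol Cfsg.Agent.SporRec.TwoSp6.CInvol
open Cfsg.Agent.SporRec.Co3.Fusion (tC mem_cent InA InB t_sq t_ne)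
open Cfsg.Agent.OddHalf.D4

/-- Hypotheses of type `Co₃`. -/
theorem sheet_of {X : Type*} [Group X] [Finite X] {t : X} {π : Subgroup.centralizer ({t} : Set X) →* S}
    (ht : orderOf t = 2) (hO : Cfsg.oddCore X = ⊥) (hZ : Subgroup.center X = ⊥) (N : NS (tC t) π)
    (hout : ∀ α : MulAut X, Spor.Inn α) : Spor.Sheet X where
  out := Spor.out_of_inn hout
  schreier := Spor.schreier_of_inn hout
  sylAut := Spor.sylAut_of_inn hout
  z1 := fun T a ha ha2 ha1 hac b hb hb2 hb1 hbc => z1 N T a ha ha2 ha1 hac b hb hb2 hb1 hbc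
  bal := fun a ha2 ha1 I hI hn hodd => bal ht hO hZ N a ha2 ha1 I hI hn hodd
  out2 := Spor.out2_of_inn hout
  tab := Spor.tab_of_not_bad fun w M => not_bad ht hO hZ N w M

/-! ### the projection of the model -/

theorem pre_tr : SporRec.TwoSp6.Hom.Pre (1 : S) (fun i => tr (v i)) where
  z_sq := one_mul 1
  sq := fun i => tr_sq (v i)
  comm := fun i j h => by
    rw [one_mul]
    apply tr_comm
    rw [om_v', if_neg]
    omega
  braid := fun i j h => by
    apply tr_braid
    rw [om_v', if_pos h]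
  cox := prod7_pow

open SporRec.TwoSp6.Model in
/-- The model is a non-split double cover of `Sp₆(2)`. -/
theorem exists_NS_M : ∃ π : M →* S, NS z π := by
  obtain ⟨φ, hφ, hz⟩ := SporRec.TwoSp6.Hom.exists_hom pre_tr
  have hsurj : Function.Surjective φ := by
    rw [← MonoidHom.range_eq_top, eq_top_iff, ← closure_v, Subgroup.closure_le]
    rintro _ ⟨i, rfl⟩
    exact ⟨gen i, hφ i⟩
  have R := SporRec.TwoSp6.Model.rels
  have hM : Nat.card M = 2903040 := SporRec.TwoSp6.Order.card_M
  have fM : Finite M := Nat.finite_of_card_ne_zero (by rw [hM]; norm_num)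
  have hker : Nat.card φ.ker = 2 := by
    have h1 := Subgroup.card_mul_index φ.ker
    rw [Subgroup.index_ker, MonoidHom.range_eq_top.mpr hsurj, Subgroup.card_top, card_S, hM] at h1
    omega
  refine ⟨φ, NS.of_rels (a := gen) ?_ hφ R⟩
  refine { surj := hsurj, z_ne := R.z_ne, z_sq := R.z_sq, z_comm := R.z_comm, ker := ?_, map_z := hz }
  intro g hg
  by_contra hcon
  push Not at hcon
  have h3 : ({1, z, g} : Set M) ⊆ (φ.ker : Set M) := by
    rintro x (rfl | rfl | rfl)
    · exact one_mem _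
    · exact hz
    · exact hg
  have h4 : ({1, z, g} : Set M).ncard = 3 := by
    rw [Set.ncard_eq_three]
    exact ⟨1, z, g, R.z_ne.symm, hcon.1.symm, hcon.2.symm, rfl⟩
  have h5 := Set.ncard_le_ncard h3 (Set.toFinite _)
  rw [h4, ← Nat.card_coe_set_eq] at h5
  have h6 : Nat.card ↥(φ.ker : Set M) = 2 := hker
  omega

/-- Transport of `NS`. -/
theorem NS_comp {C C' : Type*} [Group C] [Group C'] {z : C} {π : C →* S} (N : NS z π) (e : C' ≃* C) :
    NS (e.symm z) (π.comp e.toMonoidHom) where
  surj := N.surj.comp e.surjective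
  z_ne := fun h => N.z_ne (by rw [← e.apply_symm_apply z, h, map_one])
  z_sq := by rw [← map_mul, N.z_sq, map_one]
  z_comm := fun g => by
    apply e.injective
    rw [map_mul, map_mul, e.apply_symm_apply, N.z_comm]
  ker := fun g hg => by
    rcases N.ker (e g) hg with h | h
    · left; exact (map_eq_one_iff e e.injective).1 h
    · right; rw [← h, e.symm_apply_apply]
  map_z := by
    show π (e (e.symm z)) = 1
    rw [e.apply_symm_apply, N.map_z]
  sq := fun u hu x hx => by
    apply e.injective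
    rw [map_mul, e.apply_symm_apply, N.sq u hu (e x) hx]
  anti := fun u w hu hw hne ho x y hx hy => by
    apply e.injective
    rw [map_mul, map_mul, map_mul, e.apply_symm_apply, N.anti u w hu hw hne ho (e x) (e y) hx hy]

section G3

open SporRec.TwoSp6.Model SporRec.Co3.Ident SporRec.Co3.Chain

/-- A homomorphism from the double cover which is not trivial on `z` is injective. -/
theorem injective_of_NS {C D : Type*} [Group C] [Group D] {z : C} {π : C →* S} (N : NS z π) (f : C →* D)
    (hf : f z ≠ 1) : Function.Injective f := by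
  have hsimple : IsSimpleGroup S := Cfsg.Agent.Co2Type.Setup.isSimpleGroup_sp6
  rw [injective_iff_map_eq_one]
  intro x hx
  have hn : (f.ker.map π).Normal := Subgroup.Normal.map inferInstance π N.surj
  rcases hn.eq_bot_or_eq_top with h | h
  · have h1 : π x ∈ f.ker.map π := ⟨x, hx, rfl⟩
    rw [h, Subgroup.mem_bot] at h1
    rcases N.ker x h1 with h2 | h2
    · exact h2
    · rw [h2] at hx
      exact absurd hx hf
  · exfalso
    have h1 : tr (v 0) ∈ f.ker.map π := by rw [h]; exact Subgroup.mem_top _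
    obtain ⟨y, hy, hy'⟩ := h1
    apply hf
    rw [← N.sq _ (v_ne 0) y hy']
    have hy1 : f y = 1 := hy
    rw [map_mul, hy1, one_mul]

theorem Z_ne : Z ≠ 1 := by
  intro h
  have h1 : Function.Surjective phi0 := by
    intro x
    obtain ⟨m, hm⟩ := KFacts.Co3.Cent.exists_of_comm (x := x) (by rw [h, mul_one, one_mul])
    exact ⟨m, hm.symm⟩
  have hM : Nat.card M = 2903040 := SporRec.TwoSp6.Order.card_M
  have fM : Finite M := Nat.finite_of_card_ne_zero (by rw [hM]; norm_num)
  have h2 := Nat.card_le_card_of_surjective _ h1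
  rw [isCo3_G3.2, hM] at h2
  omega

theorem exists_NS_G3 : ∃ π : Subgroup.centralizer ({Z} : Set G3) →* S, NS (tC Z) π := by
  obtain ⟨π, N⟩ := exists_NS_M
  have hinj : Function.Injective phi0 := injective_of_NS N phi0 (by rw [phi0_z]; exact Z_ne)
  have hmem : ∀ m : M, phi0 m ∈ Subgroup.centralizer ({Z} : Set G3) := by
    intro m
    rw [mem_cent, ← phi0_z, ← map_mul, ← map_mul, N.z_comm]
  let f : M →* Subgroup.centralizer ({Z} : Set G3) := phi0.codRestrict _ hmem
  have hf : Function.Bijective f := by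
    constructor
    · intro a b hab
      exact hinj (congrArg Subtype.val hab)
    · rintro ⟨x, hx⟩
      obtain ⟨m, hm⟩ := KFacts.Co3.Cent.exists_of_comm (mem_cent.1 hx)
      exact ⟨m, Subtype.ext hm.symm⟩
  let e : M ≃* Subgroup.centralizer ({Z} : Set G3) := MulEquiv.ofBijective f hf
  have h := NS_comp N e.symm
  have hz : e.symm.symm SporRec.TwoSp6.Model.z = tC Z := Subtype.ext phi0_z
  rw [hz] at h
  exact ⟨_, h⟩

theorem orderOf_Z : orderOf Z = 2 := orderOf_eq_prime (by rw [pow_two]; exact Z_sq) Z_ne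

end G3

/-! ### the sheet -/

theorem exists_not_comm {X : Type*} [Group X] {t : X} {π : Subgroup.centralizer ({t} : Set X) →* S}
    (N : NS (tC t) π) : ∃ a b : X, a * b ≠ b * a := by
  obtain ⟨p, hp⟩ := N.surj (tr (enc 1))
  obtain ⟨q, hq⟩ := N.surj (tr (enc 2))
  have h := N.anti (enc 1) (enc 2) (by decide +kernel) (by decide +kernel) (by decide +kernel)
    ((om_enc 1 2).trans (by decide)) p q hp hq
  refine ⟨p, q, fun hpq => N.z_ne ?_⟩
  have h1 : p * q = q * p := Subtype.ext hpq
  rw [h1] at h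
  have h4 : 1 * (q * p) = tC t * (q * p) := by rw [one_mul]; exact h
  exact (mul_right_cancel h4).symm

/-- The hypotheses `O(X) = 1`, `Z(X) = 1` for simple groups. -/
theorem core_center {X : Type*} [Group X] [Finite X] [IsSimpleGroup X] {t : X}
    {π : Subgroup.centralizer ({t} : Set X) →* S} (ht : orderOf t = 2) (N : NS (tC t) π) :
    Cfsg.oddCore X = ⊥ ∧ Subgroup.center X = ⊥ := by
  constructor
  · have hn : (Cfsg.oddCore X).Normal := Cfsg.Agent.Lib.Cores.pPrimeCore_normal 2
    rcases hn.eq_bot_or_eq_top with h | h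
    · exact h
    · exfalso
      have h1 : (Nat.card (Cfsg.oddCore X)).Coprime 2 := Cfsg.Agent.Lib.Cores.pPrimeCore_coprime 2
      rw [h, Subgroup.card_top] at h1
      have h2 : 2 ∣ Nat.card X := by rw [← ht]; exact orderOf_dvd_natCard t
      exact absurd (Nat.Coprime.eq_one_of_dvd h1.symm h2) (by norm_num)
  · rcases (inferInstance : (Subgroup.center X).Normal).eq_bot_or_eq_top with h | h
    · exact h
    · exfalso
      obtain ⟨a, b, hab⟩ := exists_not_comm N
      apply hab
      have h3 : b ∈ Subgroup.center X := by rw [h]; exact Subgroup.mem_top b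
      exact Subgroup.mem_center_iff.mp h3 a

/-- **The sheet of kind D4 of `Co₃`**, given `Out(Co₃) = 1`. -/
theorem sheet_G3 (hout : ∀ α : MulAut SporRec.Co3.Chain.G3, Spor.Inn α) : Spor.Sheet SporRec.Co3.Chain.G3 := by
  have hs : IsSimpleGroup SporRec.Co3.Chain.G3 := SporRec.Co3.Chain.isCo3_G3.1
  have hf : Finite SporRec.Co3.Chain.G3 :=
    Nat.finite_of_card_ne_zero (by rw [SporRec.Co3.Chain.isCo3_G3.2]; norm_num)
  obtain ⟨π, N⟩ := exists_NS_G3
  obtain ⟨h1, h2⟩ := core_center orderOf_Z N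
  exact sheet_of orderOf_Z h1 h2 N hout

/-- **The sheet of kind D4 of `Co₃`**, given `Out(Co₃) = 1`. -/
theorem sheet {X : Type*} [Group X] (h : Cfsg.Spor.IsoCo3 X) (hout : ∀ α : MulAut X, Spor.Inn α) :
    Spor.Sheet X := by
  obtain ⟨e⟩ := h
  have e' : X ≃* SporRec.Co3.Chain.G3 := e.trans SporRec.Co3.Model.equivCo3.symm
  refine Spor.Sheet.of_equiv e'.symm (sheet_G3 fun α => ?_)
  exact (Spor.inn_iff e').1 (hout _)

end Cfsg.Agent.KFacts.Co3D4
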