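import Cfsg.Agent.KFacts.Co3D4.Model
import Cfsg.Agent.KFacts.Co3.Sheet

/-!
# The sheet of kind D4 of `Co₃`
-/

set_option autoImplicit false

namespace Cfsg.Agent.KFacts.Co3D4

/-- **The sheet of kind D4 of `Co₃`.** -/
theorem sheetD4 {X : Type*} [Group X] (h : Cfsg.Spor.IsoCo3 X) : OddHalf.D4.Spor.Sheet X := by
  obtain ⟨z, hz⟩ := Cfsg.Agent.KFacts.Co3.Sheet.exists_facts h
  exact sheet h hz.inner

end Cfsg.Agent.KFacts.Co3D4
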