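import Cfsg.Agent.SporRec.Co3.Sylow2

/-!
# Normal subgroups of the centraliser, in `2.Sp₆(2)`, of an involution of type B

`small`: `C` the non-split double cover of `Sp₆(2)`, `y` an involution of type B, `M ≤ C_C(y)` normalised by `C_C(y)`,
`z ∉ M`: then `M ≤ {1, y, z y}`.

`exists_A`: an involution of type A commuting with `y`.
-/

set_option autoImplicit false
set_option linter.unusedSimpArgs false

namespace Cfsg.Agent.KFacts.Co3D4

open Cfsg.Agent.SporRec.TwoSp6.Cox Cfsg.Agent.SporRec.TwoSp6.Sp Cfsg.Agent.SporRec.TwoSp6.Lift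
  Cfsg.Agent.SporRec.TwoSp6.Main Cfsg.Agent.SporRec.TwoSp6.Invol Cfsg.Agent.SporRec.TwoSp6.CInvol
open Cfsg.Agent.SporRec.Co3.Fusion (comm_three)

/-! ### `Sp₆(2)` -/

theorem smul_cases (a : ZMod 2) (x : V) (h : a • x = 0) (hx : x ≠ 0) : a = 0 := by
  rcases (show ∀ a : ZMod 2, a = 0 ∨ a = 1 by decide) a with rfl | rfl
  · rfl
  · rw [one_smul] at h
    exact absurd h hx

/-- Coefficients of a vanishing combination of two independent vectors. -/
theorem coef_two {u w : V} (hu : u ≠ 0) (hw : w ≠ 0) (hne : w ≠ u) {α β : ZMod 2} (h : α • u + β • w = 0) :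
    α = 0 ∧ β = 0 := by
  have d : ∀ a : ZMod 2, a = 0 ∨ a = 1 := by decide
  rcases d α with rfl | rfl <;> rcases d β with rfl | rfl
  · exact ⟨rfl, rfl⟩
  · rw [zero_smul, one_smul, zero_add] at h
    exact absurd h hw
  · rw [zero_smul, one_smul, add_zero] at h
    exact absurd h hu
  · rw [one_smul, one_smul] at h
    exact absurd (eq_of_add_eq_zero h).symm hne

/-- Coefficients of a vanishing combination of three independent vectors. -/
theorem coef_three {u w t : V} (hi : Ind u w t) {α β γ : ZMod 2} (h : α • u + β • w + γ • t = 0) :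
    α = 0 ∧ β = 0 ∧ γ = 0 := by
  obtain ⟨h1, h2, h3, h4, h5, h6, h7⟩ := hi
  have d : ∀ a : ZMod 2, a = 0 ∨ a = 1 := by decide
  rcases d γ with rfl | rfl
  · rw [zero_smul, add_zero] at h
    obtain ⟨a, b⟩ := coef_two h1 h2 h3 h
    exact ⟨a, b, rfl⟩
  · exfalso
    rw [one_smul] at h
    have ht := eq_of_add_eq_zero h
    rcases d α with rfl | rfl <;> rcases d β with rfl | rfl
    · rw [zero_smul, zero_smul, zero_add] at ht; exact h4 ht.symm
    · rw [zero_smul, one_smul, zero_add] at ht; exact h6 ht.symm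
    · rw [zero_smul, one_smul, add_zero] at ht; exact h5 ht.symm
    · rw [one_smul, one_smul] at ht; exact h7 ht.symm

theorem fix_two {u w x : V} (hu : u ≠ 0) (hw : w ≠ 0) (hne : w ≠ u) (ho : om u w = 0)
    (h : act (tr u * tr w) x = x) : om x u = 0 ∧ om x w = 0 := by
  have ho' : om w u = 0 := by rw [om_symm]; exact ho
  rw [act_mul, act_tr, act_tr, om_add', om_smul', ho', mul_zero, add_zero] at h
  have h2 : om x u • u + om x w • w = 0 := by
    have : x + (om x u • u + om x w • w) = x + 0 := by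
      rw [add_zero]
      calc x + (om x u • u + om x w • w) = x + om x w • w + om x u • u := by abel
        _ = x := h
    exact add_left_cancel this
  exact coef_two hu hw hne h2

theorem fix_A {u w x : V} (hu : u ≠ 0) (hw : w ≠ 0) (hne : w ≠ u) (ho : om u w = 0)
    (h : act (tr u * tr w * tr (u + w)) x = x) : om x u = 0 ∧ om x w = 0 := by
  rw [tr3_apply ho] at h
  have h2 : om x w • u + om x u • w = 0 := by
    have : x + (om x w • u + om x u • w) = x + 0 := by rw [add_zero]; exact h
    exact add_left_cancel this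
  exact (coef_two hu hw hne h2).symm

theorem fix_B {u w t x : V} (hi : Ind u w t) (ho : Orth u w t) (h : act (tr u * tr w * tr t) x = x) :
    om x u = 0 ∧ om x w = 0 ∧ om x t = 0 := by
  obtain ⟨o1, o2, o3⟩ := ho
  have o1' : om w u = 0 := by rw [om_symm]; exact o1
  have o2' : om t u = 0 := by rw [om_symm]; exact o2
  have o3' : om t w = 0 := by rw [om_symm]; exact o3
  rw [act_mul, act_mul, act_tr t, act_tr w, act_tr u] at h
  simp only [om_add', om_smul', o1', o2', o3', mul_zero, add_zero] at h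
  have h2 : om x u • u + om x w • w + om x t • t = 0 := by
    have : x + (om x u • u + om x w • w + om x t • t) = x + 0 := by
      rw [add_zero]
      calc x + (om x u • u + om x w • w + om x t • t) = x + om x t • t + om x w • w + om x u • u := by abel
        _ = x := h
    exact add_left_cancel this
  exact coef_three hi h2

/-- Transvections are determined by their vector. -/
theorem tr_inj {u w : V} (hu : u ≠ 0) (hw : w ≠ 0) (h : tr u = tr w) : u = w := by
  by_contra hne
  have h1 : tr u * tr w = 1 := by rw [h, tr_sq]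
  obtain ⟨a, ha⟩ := exists_om_one hu
  have ha' : om a u = 1 := by rw [om_symm]; exact ha
  have ho : om u w = 0 := by
    have h2 : act (tr u) u = u := by rw [act_tr, om_self, zero_smul, add_zero]
    rw [h, act_tr] at h2
    have h3 : om u w • w = 0 := by
      have : u + om u w • w = u + 0 := by rw [add_zero]; exact h2
      exact add_left_cancel this
    exact smul_cases _ _ h3 hw
  have h2 : act (tr u * tr w) a = a := by rw [h1, act_one]
  have := (fix_two hu hw (fun h => hne h.symm) ho h2).1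
  rw [ha'] at this
  exact one_ne_zero this

theorem act_B {a b c : V} (ho : Orth a b c) (x : V) :
    act (tr a * tr b * tr c) x = x + (om x a • a + om x b • b + om x c • c) := by
  obtain ⟨o1, o2, o3⟩ := ho
  have o1' : om b a = 0 := by rw [om_symm]; exact o1
  have o2' : om c a = 0 := by rw [om_symm]; exact o2
  have o3' : om c b = 0 := by rw [om_symm]; exact o3
  rw [act_mul, act_mul, act_tr c, act_tr b, act_tr a]
  simp only [om_add', om_smul', o1', o2', o3', mul_zero, add_zero]
  abel

theorem mem_of_B_aux {a b c a' b' c' : V} (ho : Orth a b c) (ho' : Orth a' b' c')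
    (h : tr a * tr b * tr c = tr a' * tr b' * tr c') {x : V} (hx : om x a = 1) (hxb : om x b = 0)
    (hxc : om x c = 0) : (a = a' ∨ a = b' ∨ a = c') ∨ (a = a' + b' + c' ∧ om x a' = 1 ∧ om x b' = 1 ∧
      om x c' = 1) := by
  have h1 := act_B ho x
  rw [h, act_B ho', hx, hxb, hxc, one_smul, zero_smul, zero_smul, add_zero, add_zero] at h1
  have h2 : om x a' • a' + om x b' • b' + om x c' • c' = a := add_left_cancel h1
  have d : ∀ a : ZMod 2, a = 0 ∨ a = 1 := by decide
  -- the number of nonzero coefficients is odd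
  have h4 : om x a' * om x a' + om x b' * om x b' + om x c' * om x c' = 1 := by
    have h3 := hx
    rw [← h2, om_add, om_add, om_smul, om_smul, om_smul] at h3
    exact h3
  rcases d (om x a') with p | p <;> rcases d (om x b') with q | q <;> rcases d (om x c') with r | r <;>
    rw [p, q, r] at h2 h4
  · exact absurd h4 (by decide)
  · rw [zero_smul, zero_smul, one_smul, zero_add, zero_add] at h2; exact Or.inl (Or.inr (Or.inr h2.symm))
  · rw [zero_smul, zero_smul, one_smul, zero_add, add_zero] at h2; exact Or.inl (Or.inr (Or.inl h2.symm))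
  · exact absurd h4 (by decide)
  · rw [zero_smul, zero_smul, one_smul, add_zero, add_zero] at h2; exact Or.inl (Or.inl h2.symm)
  · exact absurd h4 (by decide)
  · exact absurd h4 (by decide)
  · rw [one_smul, one_smul, one_smul] at h2
    exact Or.inr ⟨h2.symm, p, q, r⟩

theorem ind_rot {u w t : V} (h : Ind u w t) : Ind w t u := by
  obtain ⟨h1, h2, h3, h4, h5, h6, h7⟩ := h
  exact ⟨h2, h4, h6, h1, h3.symm, h5.symm, fun h => h7 (by rw [h, add_comm w t, add_assoc, add_self, add_zero])⟩

/-- The three vectors of an involution of type B are determined by it. -/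
theorem mem_of_B {a b c a' b' c' : V} (hi : Ind a b c) (ho : Orth a b c) (ho' : Orth a' b' c')
    (h : tr a * tr b * tr c = tr a' * tr b' * tr c') : a = a' ∨ a = b' ∨ a = c' := by
  obtain ⟨x, hx, hxb, hxc⟩ := exists_om_triple (ind_rot hi)
  rw [om_symm] at hx hxb hxc
  rcases mem_of_B_aux ho ho' h hx hxb hxc with h1 | ⟨h1, p, q, r⟩
  · exact h1
  exfalso
  obtain ⟨y, hy, hyc, hya⟩ := exists_om_triple (ind_rot (ind_rot hi))
  rw [om_symm] at hy hyc hya
  have ho2 : Orth b c a := ⟨ho.2.2, by rw [om_symm]; exact ho.1, by rw [om_symm]; exact ho.2.1⟩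
  have h2 : tr b * tr c * tr a = tr a' * tr b' * tr c' := by
    have c1 : Commute (tr a) (tr b) := tr_comm ho.1
    have c2 : Commute (tr a) (tr c) := tr_comm ho.2.1
    rw [← h, mul_assoc (tr a)]
    exact (c1.mul_right c2).symm
  rcases mem_of_B_aux ho2 ho' h2 hy hyc hya with (h3 | h3 | h3) | ⟨h3, -⟩
  · rw [h3, p] at hxb; exact one_ne_zero hxb
  · rw [h3, q] at hxb; exact one_ne_zero hxb
  · rw [h3, r] at hxb; exact one_ne_zero hxb
  · exact hi.2.2.1 (by rw [h3, h1])

/-! ### The cover -/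

section

variable {C : Type*} [Group C] {z : C} {π : C →* S}

theorem zr (N : NS z π) (a b : C) : a * (z * b) = z * (a * b) := by rw [← mul_assoc, ← N.z_comm, mul_assoc]

theorem zz (N : NS z π) (a : C) : z * (z * a) = a := by rw [← mul_assoc, N.z_sq, one_mul]

/-- `x` fixes the three vectors of `y`. -/
theorem fixes (N : NS z π) {y : C} {a b c : V} (hi : Ind a b c) (ho : Orth a b c) (hy : π y = tr a * tr b * tr c)
    {M : Subgroup C} (hM : ∀ x ∈ M, x * y = y * x) (hn : ∀ g, g * y = y * g → ∀ x ∈ M, g * x * g⁻¹ ∈ M) (hz : z ∉ M)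
    {x p : C} (hx : x ∈ M) (hp : π p = tr a) : act (π x) a = a ∧ x * p = p * x := by
  have hpy : p * y = y * p := comm_three N hi.1 hi.2.1 hi.2.2.1 hi.2.2.2.1 hi.2.2.2.2.1 ho.1 ho.2.1 hy hp
  have hp2 : p * p = z := N.sq a hi.1 p hp
  -- `π x` permutes `a`, `b`, `c`
  have h1 : π x * π y = π y * π x := by rw [← map_mul, hM x hx, map_mul]
  have h2 : tr (act (π x) a) * tr (act (π x) b) * tr (act (π x) c) = tr a * tr b * tr c := by
    rw [← conj_tr, ← conj_tr, ← conj_tr, ← hy]
    have : π x * tr a * (π x)⁻¹ * (π x * tr b * (π x)⁻¹) * (π x * tr c * (π x)⁻¹) =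
        π x * (tr a * tr b * tr c) * (π x)⁻¹ := by group
    rw [this, ← hy, h1, mul_inv_cancel_right]
  have hoa : Orth (act (π x) a) (act (π x) b) (act (π x) c) :=
    ⟨by rw [act_om]; exact ho.1, by rw [act_om]; exact ho.2.1, by rw [act_om]; exact ho.2.2⟩
  have h3 := mem_of_B (hi.act (π x)) hoa ho h2
  -- the commutator with `p`
  have hcm : x * (p * x⁻¹ * p⁻¹) ∈ M := M.mul_mem hx (hn p hpy _ (M.inv_mem hx))
  have hq : π (x * p * x⁻¹) = tr (act (π x) a) := by
    rw [map_mul, map_mul, map_inv, hp, conj_tr]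
  have hne : act (π x) a = a := by
    by_contra hcon
    have key : ∀ r : V, r ≠ 0 → r ≠ a → om a r = 0 → act (π x) a = r → False := by
      intro r hr hra hor hxr
      rw [hxr] at hq
      have hq2 : (x * p * x⁻¹) * (x * p * x⁻¹) = z := N.sq r hr _ hq
      have han := N.anti a r hi.1 hr hra hor p (x * p * x⁻¹) hp hq
      set q := x * p * x⁻¹ with hqd
      have e1 : x * (p * x⁻¹ * p⁻¹) = q * p⁻¹ := by rw [hqd]; group
      rw [e1] at hcm
      have e2 : p⁻¹ = z * p := by
        apply inv_eq_of_mul_eq_one_right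
        rw [zr N, hp2, N.z_sq]
      rw [e2] at hcm
      apply hz
      have e3 : (q * (z * p)) * (q * (z * p)) = z := by
        calc (q * (z * p)) * (q * (z * p)) = (z * (q * p)) * (z * (q * p)) := by rw [zr N]
          _ = (q * p) * (q * p) := N.toExt.z_mul_sq _
          _ = q * (p * q) * p := by group
          _ = q * (z * (q * p)) * p := by rw [han]
          _ = z * ((q * q) * (p * p)) := by rw [zr N]; group
          _ = z := by rw [hq2, hp2, N.z_sq, mul_one]
      rw [← e3]
      exact M.mul_mem hcm hcm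
    rcases h3 with h3 | h3 | h3
    · exact hcon h3
    · exact key b hi.2.1 hi.2.2.1 ho.1 h3
    · exact key c hi.2.2.2.1 hi.2.2.2.2.1 ho.2.1 h3
  refine ⟨hne, ?_⟩
  rw [hne, ← hp] at hq
  rcases N.toExt.eq_or hq.symm with h | h
  · exact mul_inv_eq_iff_eq_mul.1 h
  · exfalso
    apply hz
    have e1 : x * (p * x⁻¹ * p⁻¹) = z := by
      have : x * (p * x⁻¹ * p⁻¹) = x * p * x⁻¹ * p⁻¹ := by group
      rw [this, h, mul_inv_cancel_right]
    rw [← e1]
    exact hcm

/-- An element of `Sp₆(2)` fixing three independent orthogonal vectors is an involution or trivial. -/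
theorem sq_of_fix {g : S} {a b c : V} (hi : Ind a b c) (ho : Orth a b c) (ha : act g a = a) (hb : act g b = b)
    (hc : act g c = c) : g * g = 1 := by
  apply act_ext
  intro v
  rw [act_mul, act_one]
  have key : ∀ r : V, act g r = r → om (v + act g v) r = 0 := by
    intro r hr
    rw [om_add']
    have : om (act g v) r = om v r := by
      conv_lhs => rw [← hr]
      rw [act_om]
    rw [this]
    exact CharTwo.add_self_eq_zero _
  obtain ⟨α, β, γ, e⟩ := maximal hi ho (key a ha) (key b hb) (key c hc)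
  have h1 : act g (v + act g v) = v + act g v := by
    rw [e, act_add, act_add, act_smul, act_smul, act_smul, ha, hb, hc]
  rw [act_add, add_comm v] at h1
  exact add_left_cancel h1

/-- A lift of `tr u tr w tr t` (orthogonal vectors) commuting with a lift of `tr a`, `a` orthogonal to the three
vectors: `a` is one of them. -/
theorem mem_three (N : NS z π) {u w t a : V} (hu : u ≠ 0) (hw : w ≠ 0) (ht : t ≠ 0) (ha : a ≠ 0)
    (h1 : om a u = 0) (h2 : om a w = 0) (h3 : om a t = 0) {x p : C}
    (hx : π x = tr u * tr w * tr t) (hp : π p = tr a) (hc : x * p = p * x) : a = u ∨ a = w ∨ a = t := by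
  by_contra hcon
  push Not at hcon
  obtain ⟨n1, n2, n3⟩ := hcon
  have := NS.conj_three N hu hw ht ha n1.symm n2.symm n3.symm h1 h2 h3 hx hp
  rw [← hc] at this
  apply N.z_ne
  have h4 : 1 * (x * p) = z * (x * p) := by rw [one_mul]; exact this
  exact (mul_right_cancel h4).symm

theorem perm_cases {α : Type*} {u w t a b c : α} (ba : b ≠ a) (ca : c ≠ a) (cb : c ≠ b)
    (h1 : a = u ∨ a = w ∨ a = t) (h2 : b = u ∨ b = w ∨ b = t) (h3 : c = u ∨ c = w ∨ c = t) :
    (u = a ∧ w = b ∧ t = c) ∨ (u = a ∧ w = c ∧ t = b) ∨ (u = b ∧ w = a ∧ t = c) ∨ (u = b ∧ w = c ∧ t = a) ∨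
    (u = c ∧ w = a ∧ t = b) ∨ (u = c ∧ w = b ∧ t = a) := by
  rcases h1 with rfl | rfl | rfl <;> rcases h2 with rfl | rfl | rfl <;> rcases h3 with rfl | rfl | rfl <;> simp_all

theorem prod_perm {G : Type*} [Group G] {α : Type*} (f : α → G) {u w t a b c : α} (c1 : f a * f b = f b * f a)
    (c2 : f a * f c = f c * f a) (c3 : f b * f c = f c * f b) (h : (u = a ∧ w = b ∧ t = c) ∨
      (u = a ∧ w = c ∧ t = b) ∨ (u = b ∧ w = a ∧ t = c) ∨ (u = b ∧ w = c ∧ t = a) ∨
    (u = c ∧ w = a ∧ t = b) ∨ (u = c ∧ w = b ∧ t = a)) : f a * f b * f c = f u * f w * f t := by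
  rcases h with ⟨rfl, rfl, rfl⟩ | ⟨rfl, rfl, rfl⟩ | ⟨rfl, rfl, rfl⟩ | ⟨rfl, rfl, rfl⟩ | ⟨rfl, rfl, rfl⟩ |
    ⟨rfl, rfl, rfl⟩
  · rfl
  · rw [mul_assoc, c3, mul_assoc]
  · rw [c1]
  · rw [mul_assoc]
    calc f t * (f u * f w) = (f t * f u) * f w := by group
      _ = f u * (f t * f w) := by rw [c1]; group
      _ = f u * f w * f t := by rw [c2]; group
  · calc f w * f t * f u = f w * (f t * f u) := by group
      _ = (f w * f u) * f t := by rw [c3]; group
      _ = f u * f w * f t := by rw [c2]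
  · calc f t * f w * f u = (f w * f t) * f u := by rw [c1]
      _ = f w * (f u * f t) := by rw [← c2]; group
      _ = (f u * f w) * f t := by rw [← c3]; group

theorem sum_perm {u w a b c : V} (h : (u = a ∧ w = b ∧ u + w = c) ∨
      (u = a ∧ w = c ∧ u + w = b) ∨ (u = b ∧ w = a ∧ u + w = c) ∨ (u = b ∧ w = c ∧ u + w = a) ∨
    (u = c ∧ w = a ∧ u + w = b) ∨ (u = c ∧ w = b ∧ u + w = a)) : c = a + b := by
  have dd : ∀ p q : V, p + (p + q) = q := fun p q => by rw [← add_assoc, add_self, zero_add]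
  rcases h with ⟨rfl, rfl, h⟩ | ⟨rfl, rfl, h⟩ | ⟨rfl, rfl, h⟩ | ⟨rfl, rfl, h⟩ | ⟨rfl, rfl, h⟩ |
    ⟨rfl, rfl, h⟩
  · exact h.symm
  · rw [← h, dd]
  · rw [← h, add_comm]
  · rw [← h, add_comm u w, add_assoc, add_self, add_zero]
  · rw [← h, add_comm u w, dd]
  · rw [← h, add_assoc, add_self, add_zero]

/-- **A subgroup of `C(y)`, `y` of type B, normalised by `C(y)` and not containing `z`, is contained in
`{1, y, z y}`.** -/
theorem small (N : NS z π) {y : C} (hB : SporRec.TwoSp6.CInvol.IsB π y) {M : Subgroup C} (hM : ∀ x ∈ M, x * y = y * x)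
    (hn : ∀ g, g * y = y * g → ∀ x ∈ M, g * x * g⁻¹ ∈ M) (hz : z ∉ M) :
    ∀ x ∈ M, x = 1 ∨ x = y ∨ x = z * y := by
  obtain ⟨a, b, c, hi, ho, hy⟩ := hB
  intro x hx
  obtain ⟨o1, o2, o3⟩ := ho
  obtain ⟨pa, hpa⟩ := N.surj (tr a)
  obtain ⟨pb, hpb⟩ := N.surj (tr b)
  obtain ⟨pc, hpc⟩ := N.surj (tr c)
  have c1 : Commute (tr a) (tr b) := tr_comm o1
  have c2 : Commute (tr a) (tr c) := tr_comm o2
  have c3 : Commute (tr b) (tr c) := tr_comm o3
  have o1' : om b a = 0 := by rw [om_symm]; exact o1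
  have o2' : om c a = 0 := by rw [om_symm]; exact o2
  have o3' : om c b = 0 := by rw [om_symm]; exact o3
  have hyb : π y = tr b * tr c * tr a := by rw [hy, mul_assoc (tr a)]; exact c1.mul_right c2
  have hyc : π y = tr c * tr a * tr b := by
    rw [hy]; exact ((c2.symm.mul_right c3.symm).eq).symm.trans (mul_assoc _ _ _).symm
  obtain ⟨fa, ka⟩ := fixes N hi ⟨o1, o2, o3⟩ hy hM hn hz hx hpa
  obtain ⟨fb, kb⟩ := fixes N (ind_rot hi) ⟨o3, o1', o2'⟩ hyb hM hn hz hx hpb
  obtain ⟨fc, kc⟩ := fixes N (ind_rot (ind_rot hi)) ⟨o2', o3', o1⟩ hyc hM hn hz hx hpc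
  have hgg := sq_of_fix hi ⟨o1, o2, o3⟩ fa fb fc
  by_cases hg1 : π x = 1
  · rcases N.ker x hg1 with h | h
    · exact Or.inl h
    · rw [h] at hx
      exact absurd hx hz
  right
  obtain ⟨a0, b0, ba, c0, ca, cb, cab⟩ := hi
  rcases classify hgg hg1 with ⟨s, hs, e⟩ | ⟨u, w, hu, hw, hne, huw, e⟩ | ⟨u, w, hu, hw, hne, huw, e⟩ |
    ⟨u, w, t, hi', ho', e⟩
  · exfalso
    apply hz
    rw [← N.sq s hs x e]
    exact M.mul_mem hx hx
  · exfalso
    apply hz
    rw [← NS.sq_two N hu hw hne huw e]
    exact M.mul_mem hx hx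
  · exfalso
    have key : ∀ r : V, r ≠ 0 → ∀ p : C, π p = tr r → act (π x) r = r → x * p = p * x →
        r = u ∨ r = w ∨ r = u + w := by
      intro r hr p hp hf hc
      rw [e] at hf
      obtain ⟨h1, h2⟩ := fix_A hu hw hne huw hf
      exact mem_three N hu hw (add_ne_zero' hne) hr h1 h2 (by rw [om_add, h1, h2, add_zero]) e hp hc
    exact cab (sum_perm (perm_cases ba ca cb (key a a0 pa hpa fa ka) (key b b0 pb hpb fb kb)
      (key c c0 pc hpc fc kc)))
  · have key : ∀ r : V, r ≠ 0 → ∀ p : C, π p = tr r → act (π x) r = r → x * p = p * x →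
        r = u ∨ r = w ∨ r = t := by
      intro r hr p hp hf hc
      rw [e] at hf
      obtain ⟨h1, h2, h3⟩ := fix_B hi' ho' hf
      exact mem_three N hi'.1 hi'.2.1 hi'.2.2.2.1 hr h1 h2 h3 e hp hc
    have hxy : π y = π x := by
      rw [e, hy]
      exact prod_perm tr c1 c2 c3 (perm_cases ba ca cb (key a a0 pa hpa fa ka) (key b b0 pb hpb fb kb)
        (key c c0 pc hpc fc kc))
    rcases N.toExt.eq_or hxy with h | h
    · exact Or.inl h
    · exact Or.inr h

/-- No odd order normal subgroup. -/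
theorem eq_bot_of_odd (N : NS z π) {y : C} (hB : SporRec.TwoSp6.CInvol.IsB π y) {M : Subgroup C}
    (hM : ∀ x ∈ M, x * y = y * x) (hn : ∀ g, g * y = y * g → ∀ x ∈ M, g * x * g⁻¹ ∈ M)
    (hodd : Odd (Nat.card ↥M)) : M = ⊥ := by
  have hinv : ∀ x ∈ M, x * x = 1 → x = 1 := by
    intro x hx h
    have h1 : orderOf (⟨x, hx⟩ : ↥M) ∣ 2 := by
      apply orderOf_dvd_of_pow_eq_one
      rw [pow_two]
      exact Subtype.ext h
    have h2 : orderOf (⟨x, hx⟩ : ↥M) ∣ Nat.card ↥M := orderOf_dvd_natCard _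
    have h3 : Nat.Coprime 2 (Nat.card ↥M) := Nat.coprime_two_left.mpr hodd
    have h4 : orderOf (⟨x, hx⟩ : ↥M) = 1 := Nat.eq_one_of_dvd_coprimes h3 h1 h2
    exact congrArg Subtype.val (orderOf_eq_one_iff.mp h4)
  have hz : z ∉ M := fun h => N.z_ne (hinv z h N.z_sq)
  rw [Subgroup.eq_bot_iff_forall]
  intro x hx
  rcases small N hB hM hn hz x hx with h | h | h
  · exact h
  · exact hinv x hx (by rw [h]; exact NS.sq_B N hB)
  · exact hinv x hx (by rw [h]; exact NS.sq_B N (NS.isB_mul N hB))

/-- An involution of type A commuting with an involution of type B. -/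
theorem exists_A (N : NS z π) {y : C} (hB : SporRec.TwoSp6.CInvol.IsB π y) :
    ∃ v, SporRec.TwoSp6.CInvol.IsA π v ∧ v * y = y * v := by
  obtain ⟨a, b, c, ⟨a0, b0, ba, c0, ca, cb, cab⟩, ⟨o1, o2, o3⟩, hy⟩ := hB
  have o1' : om b a = 0 := by rw [om_symm]; exact o1
  have o2' : om c a = 0 := by rw [om_symm]; exact o2
  have o3' : om c b = 0 := by rw [om_symm]; exact o3
  obtain ⟨p, hp⟩ := N.surj (tr a)
  obtain ⟨q, hq⟩ := N.surj (tr (b + c))
  obtain ⟨r, hr⟩ := N.surj (tr (a + (b + c)))
  have bc0 : b + c ≠ 0 := add_ne_zero' cb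
  have bca : b + c ≠ a := fun h => cab (by rw [← h, add_comm b c, add_assoc, add_self, add_zero])
  have abc0 : a + (b + c) ≠ 0 := add_ne_zero' bca
  -- `p` commutes with `y`, `q` and `r` anticommute
  have k1 : p * y = y * p := comm_three N a0 b0 ba c0 ca o1 o2 hy hp
  have k2 : q * y = z * (y * q) := by
    refine NS.conj_three N a0 b0 c0 bc0 bca.symm ?_ ?_ ?_ ?_ ?_ hy hq
    · intro h
      apply c0
      have : b + c = b + 0 := by rw [add_zero]; exact h.symm
      exact add_left_cancel this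
    · intro h
      apply b0
      have : b + c = 0 + c := by rw [zero_add]; exact h.symm
      exact add_right_cancel this
    · rw [om_add', o1', o2', add_zero]
    · rw [om_add', om_self, o3', add_zero]
    · rw [om_add', om_self, o3, add_zero]
  have k3 : r * y = z * (y * r) := by
    refine NS.conj_three N a0 b0 c0 abc0 ?_ ?_ ?_ ?_ ?_ ?_ hy hr
    · intro h
      apply bc0
      have : a + (b + c) = a + 0 := by rw [add_zero]; exact h.symm
      exact add_left_cancel this
    · intro h
      apply ca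
      have : b + (a + c) = b + 0 := by rw [add_zero]; rw [add_left_comm]; exact h.symm
      have h2 := add_left_cancel this
      exact (eq_of_add_eq_zero h2).symm
    · intro h
      apply ba
      have : c + (a + b) = c + 0 := by
        rw [add_zero]
        calc c + (a + b) = a + (b + c) := by abel
          _ = c := h.symm
      have h2 := add_left_cancel this
      exact (eq_of_add_eq_zero h2).symm
    · rw [om_add', om_add', om_self, o1', o2', add_zero, add_zero]
    · rw [om_add', om_add', om_self, o1, o3', add_zero, add_zero]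
    · rw [om_add', om_add', om_self, o2, o3, add_zero, add_zero]
  refine ⟨p * q * r, ⟨a, b + c, a0, bc0, bca, by rw [om_add, o1, o2, add_zero], ?_⟩, ?_⟩
  · rw [map_mul, map_mul, hp, hq, hr]
  · calc p * q * r * y = p * q * (r * y) := by group
      _ = z * (p * (q * y) * r) := by rw [k3, zr N]; group
      _ = z * (z * (p * y * q * r)) := by rw [k2, zr N]; group
      _ = (p * y) * q * r := by rw [zz N]
      _ = y * (p * q * r) := by rw [k1]; group

end

end Cfsg.Agent.KFacts.Co3D4
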